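import Mathlib
import Cfsg.Agent.Lib.Helper58.UPair.Defs
import Cfsg.Agent.Lib.Helper45.HermSU

/-!
# Project UPair (S5984): package [INVEX]
-/

set_option autoImplicit false
open scoped MatrixGroups Matrix

namespace Cfsg.Agent.Lib.Helper61.UPair

universe u

/-- An element `l` of norm 1 with `l ^ n = -1`, when `v₂(n) < v₂(q + 1)`. -/
theorem invex_scalar (F : Type u) [Field F] [Fintype F] (q n : ℕ) (hF : Fintype.card F = q ^ 2)
    (hn : 2 ≤ n) (hv : padicValNat 2 n < padicValNat 2 (q + 1)) :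
    ∃ l : F, l ^ (q + 1) = 1 ∧ l ^ n = -1 ∧ (2 : F) ≠ 0 := by
  classical
  set a := padicValNat 2 n with ha
  have hq1 : q + 1 ≠ 0 := by omega
  have ht : 2 ^ (a + 1) ∣ q + 1 := (padicValNat_dvd_iff_le hq1).mpr (by omega)
  have hNcard : Nat.card Fˣ = q ^ 2 - 1 := by
    rw [Nat.card_units, Nat.card_eq_fintype_card, hF]
  have hqq : q ^ 2 - 1 = (q + 1) * (q - 1) := by
    have hq2 := Cfsg.Agent.Lib.Helper45.two_le_q hF
    obtain ⟨k, rfl⟩ := Nat.exists_eq_add_of_le hq2
    have e1 : 2 + k - 1 = k + 1 := by omega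
    have e2 : (2 + k) ^ 2 = (2 + k + 1) * (k + 1) + 1 := by ring
    rw [e1, e2, Nat.add_sub_cancel]
  have hN0 : q ^ 2 - 1 ≠ 0 := by
    have := Cfsg.Agent.Lib.Helper45.two_le_q hF
    have : 4 ≤ q ^ 2 := by nlinarith
    omega
  have htN : 2 ^ (a + 1) ∣ q ^ 2 - 1 := by rw [hqq]; exact Dvd.dvd.mul_right ht _
  obtain ⟨ω, hω⟩ := IsCyclic.exists_generator (α := Fˣ)
  have hωord : orderOf ω = q ^ 2 - 1 := by
    rw [orderOf_eq_card_of_forall_mem_zpowers hω, hNcard]
  set m := (q ^ 2 - 1) / 2 ^ (a + 1) with hm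
  have hmdvd : m ∣ q ^ 2 - 1 := Nat.div_dvd_of_dvd htN
  have hm0 : m ≠ 0 := by
    intro h
    rw [h, zero_dvd_iff] at hmdvd
    exact hN0 hmdvd
  have hl0 : orderOf (ω ^ m) = 2 ^ (a + 1) := by
    rw [orderOf_pow_of_dvd hm0 (by rw [hωord]; exact hmdvd), hωord, hm, Nat.div_div_self htN hN0]
  set l0 : Fˣ := ω ^ m with hl0def
  have h1 : l0 ^ (q + 1) = 1 := orderOf_dvd_iff_pow_eq_one.mp (by rw [hl0]; exact ht)
  have h2 : (l0 ^ 2 ^ a) ^ 2 = 1 := by
    rw [← pow_mul, ← pow_succ, ← hl0]; exact pow_orderOf_eq_one l0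
  have h3 : l0 ^ 2 ^ a ≠ 1 := by
    intro h
    have h' := orderOf_dvd_of_pow_eq_one h
    rw [hl0] at h'
    have h'' := Nat.le_of_dvd (by positivity) h'
    have : 2 ^ a < 2 ^ (a + 1) := by
      have : 0 < 2 ^ a := by positivity
      rw [pow_succ]; omega
    omega
  have h2' : ((l0 : F) ^ 2 ^ a) * ((l0 : F) ^ 2 ^ a) = 1 := by
    have := congrArg (Units.val) h2
    rw [Units.val_pow_eq_pow_val, Units.val_pow_eq_pow_val, Units.val_one, pow_two] at this
    exact this
  have h3' : (l0 : F) ^ 2 ^ a ≠ 1 := by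
    intro h
    apply h3
    apply Units.ext
    rw [Units.val_pow_eq_pow_val, Units.val_one]; exact h
  have h4 : (l0 : F) ^ 2 ^ a = -1 := by
    rcases mul_self_eq_one_iff.mp h2' with h | h
    · exact absurd h h3'
    · exact h
  have hn0 : n ≠ 0 := by omega
  obtain ⟨n', hn'⟩ : 2 ^ a ∣ n := pow_padicValNat_dvd
  have hodd : Odd n' := by
    rw [← Nat.not_even_iff_odd]
    intro he
    obtain ⟨c, hc⟩ := he
    have hd : 2 ^ (a + 1) ∣ n := ⟨c, by rw [hn', hc, pow_succ]; ring⟩
    have := (padicValNat_dvd_iff_le hn0).mp hd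
    omega
  refine ⟨(l0 : F), ?_, ?_, ?_⟩
  · have := congrArg Units.val h1
    rw [Units.val_pow_eq_pow_val, Units.val_one] at this
    exact this
  · rw [hn', pow_mul, h4, hodd.neg_one_pow]
  · intro h20
    apply h3'
    rw [h4]
    have : (1 : F) + 1 = 0 := by rw [one_add_one_eq_two]; exact h20
    exact neg_eq_of_add_eq_zero_left this

theorem pkgInvEx : Cfsg.Agent.Lib.Helper58.UPair.PkgInvEx.{u} := by
  intro F _ _ q n hF hq hn hv
  classical
  obtain ⟨l, hl1, hln, h2⟩ := invex_scalar F q n hF hn hv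
  have hl0 : l ≠ 0 := by
    intro h
    rw [h, zero_pow (by omega)] at hl1
    exact zero_ne_one hl1
  let i0 : Fin n := ⟨0, by omega⟩
  let e : Fin n → F := fun i => if i = i0 then -l else l
  have he1 : ∀ i, e i ^ (q + 1) = 1 := by
    intro i
    show (if i = i0 then -l else l) ^ (q + 1) = 1
    split_ifs
    · have : Even (q + 1) := hq.add_one
      rw [this.neg_pow, hl1]
    · exact hl1
  have he2 : ∀ i, e i * e i = l ^ 2 := by
    intro i
    show (if i = i0 then -l else l) * (if i = i0 then -l else l) = l ^ 2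
    split_ifs <;> ring
  have hinv : Matrix.diagonal e * Matrix.diagonal (fun i => e i ^ q) = 1 := by
    rw [Matrix.diagonal_mul_diagonal, ← Matrix.diagonal_one]
    congr 1
    funext i
    rw [← pow_succ']; exact he1 i
  have hinv' : Matrix.diagonal (fun i => e i ^ q) * Matrix.diagonal e = 1 := by
    rw [Matrix.diagonal_mul_diagonal, ← Matrix.diagonal_one]
    congr 1
    funext i
    rw [← pow_succ]; exact he1 i
  let x : GL (Fin n) F := ⟨Matrix.diagonal e, Matrix.diagonal (fun i => e i ^ q), hinv, hinv'⟩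
  have hxval : (x : Matrix (Fin n) (Fin n) F) = Matrix.diagonal e := rfl
  have hxGU : x ∈ Cfsg.GU n F q := by
    show Cfsg.Agent.Lib.Helper45.IsHermIso n F q (x : Matrix (Fin n) (Fin n) F)
    rw [hxval]
    exact Cfsg.Agent.Lib.Helper45.isHermIso_diagonal e he1
  have hdet : (x : Matrix (Fin n) (Fin n) F).det = 1 := by
    rw [hxval, Matrix.det_diagonal]
    have hfac : ∀ i, e i = l * (if i = i0 then (-1 : F) else 1) := by
      intro i
      show (if i = i0 then -l else l) = _
      split_ifs <;> ring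
    simp only [hfac]
    rw [Finset.prod_mul_distrib, Finset.prod_const, Finset.card_univ, Fintype.card_fin, hln,
      Finset.prod_ite_eq' Finset.univ i0 (fun _ => (-1 : F))]
    simp
  have hxSL : x ∈ Cfsg.Geo.specialLinear (Fin n) F := by
    rw [Cfsg.Geo.specialLinear, MonoidHom.mem_ker]
    apply Units.ext
    rw [Matrix.GeneralLinearGroup.val_det_apply]
    exact hdet
  refine ⟨x, ⟨hxGU, hxSL⟩, l, hl1, ?_, ?_⟩
  · rw [Units.val_pow_eq_pow_val, hxval, pow_two, Matrix.diagonal_mul_diagonal,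
      Matrix.smul_one_eq_diagonal]
    congr 1
    funext i
    exact he2 i
  · show ((x : Matrix (Fin n) (Fin n) F) - l • (1 : Matrix (Fin n) (Fin n) F)).rank = 1
    rw [hxval, Matrix.smul_one_eq_diagonal, Matrix.diagonal_sub, Matrix.rank_diagonal,
      Fintype.card_eq_one_iff]
    refine ⟨⟨i0, ?_⟩, ?_⟩
    · show (if i0 = i0 then -l else l) - l ≠ 0
      rw [if_pos rfl]
      intro h
      have h2l : (2 : F) * l = 0 := by linear_combination -h
      rcases mul_eq_zero.mp h2l with h | h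
      · exact h2 h
      · exact hl0 h
    · rintro ⟨i, hi⟩
      apply Subtype.ext
      show i = i0
      by_contra hne
      apply hi
      show (if i = i0 then -l else l) - l = 0
      rw [if_neg hne, sub_self]

end Cfsg.Agent.Lib.Helper61.UPair
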